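import Groth.Agent.PerfSch.Perfect
import Mathlib.AlgebraicGeometry.IdealSheaf.Functorial
import Mathlib.CategoryTheory.Endomorphism
import Mathlib.FieldTheory.IsAlgClosed.AlgebraicClosure
import Mathlib.FieldTheory.Finite.Basic

/-!
# Frobenius twists of correspondences and pullbacks of ideal sheaves
-/

universe u

open CategoryTheory CategoryTheory.Limits AlgebraicGeometry Opposite TopologicalSpace

set_option backward.isDefEq.respectTransparency.types false
set_option backward.isDefEq.respectTransparency false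

namespace Groth.Agent.LVCorr.Frob

open Groth.Agent.PerfSch.Ring

variable {p : ℕ} [hp : Fact p.Prime]

section Fq

variable (X : Scheme.{u}) [FrobSch.IsCharP X p] (m : ℕ)

/-- the `m`-th power of the absolute Frobenius -/
noncomputable abbrev Fq : X ⟶ X := End.asHom (End.of (FrobSch.frob X p) ^ m)

omit hp in
theorem Fq_zero [Fact p.Prime] : Fq (p := p) X 0 = 𝟙 X := rfl

theorem Fq_succ : Fq (p := p) X (m + 1) = FrobSch.frob X p ≫ Fq (p := p) X m := by
  simp only [Fq, pow_succ]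
  rfl

theorem Fq_apply (x : X) : Fq (p := p) X m x = x := by
  induction m with
  | zero => rfl
  | succ m ih => rw [Fq_succ, Scheme.Hom.comp_apply, FrobSch.frob_apply, ih]

theorem Fq_preimage (U : X.Opens) : Fq (p := p) X m ⁻¹ᵁ U = U :=
  Opens.ext (Set.ext fun x => by
    change Fq (p := p) X m x ∈ U ↔ x ∈ U
    rw [Fq_apply])

theorem Fq_appLE {U : X.Opens} (e : U ≤ Fq (p := p) X m ⁻¹ᵁ U) (s : Γ(X, U)) :
    (Fq (p := p) X m).appLE U U e s = s ^ p ^ m := by
  induction m with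
  | zero =>
    rw [pow_zero, pow_one, show (Fq (p := p) X 0).appLE U U e = (𝟙 X : X ⟶ X).appLE U U
      (le_refl U) from rfl]
    simp [Scheme.Hom.appLE]
    exact congr($(X.presheaf.map_id (op U)) s)
  | succ m ih =>
    have e1 : U ≤ Fq (p := p) X m ⁻¹ᵁ U := (Fq_preimage X m U).ge
    have e2 : U ≤ FrobSch.frob X p ⁻¹ᵁ U := le_rfl
    have h := Scheme.Hom.appLE_comp_appLE (FrobSch.frob X p) (Fq (p := p) X m) U U U e1 e2
    have h2 : (Fq (p := p) X (m + 1)).appLE U U e =
        (Fq (p := p) X m).appLE U U e1 ≫ (FrobSch.frob X p).appLE U U e2 := by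
      rw [h]; simp only [Fq_succ]
    rw [h2, ConcreteCategory.comp_apply, ih]
    rw [show (FrobSch.frob X p).appLE U U e2 = (FrobSch.frob X p).app U from
      (Scheme.Hom.app_eq_appLE _).symm]
    change (s ^ p ^ m) ^ p = _
    rw [pow_q_pow_q', pow_succ]
  where
    pow_q_pow_q' {R : Type u} [CommRing R] {x : R} {a : ℕ} : (x ^ a) ^ p = x ^ (a * p) :=
      (pow_mul x a p).symm

instance : IsAffineHom (Fq (p := p) X m) :=
  ⟨fun U hU => by rw [Fq_preimage]; exact hU⟩

theorem Fq_naturality {X : Scheme.{u}} [FrobSch.IsCharP X p] {Y : Scheme.{u}} [FrobSch.IsCharP Y p]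
    (f : X ⟶ Y) : Fq (p := p) X m ≫ f = f ≫ Fq (p := p) Y m := by
  induction m with
  | zero => rw [Fq_zero, Fq_zero, Category.id_comp, Category.comp_id]
  | succ m ih =>
    rw [Fq_succ, Fq_succ, Category.assoc, ih, ← Category.assoc, FrobSch.frob_comp p f,
      Category.assoc]

theorem isIso_Fq (h : FrobSch.IsPerfect X p) : IsIso (Fq (p := p) X m) := by
  have : IsIso (FrobSch.frob X p) := h
  induction m with
  | zero => rw [Fq_zero]; infer_instance
  | succ m ih => rw [Fq_succ]; infer_instance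

end Fq

section Ideal

variable {X : Scheme.{u}} [FrobSch.IsCharP X p] (m : ℕ) (M : X.IdealSheafData)

/-- the ideal sheaf generated by the `p ^ m`-th powers -/
noncomputable def powIdeal : X.IdealSheafData :=
  Scheme.IdealSheafData.mkOfMemSupportIff
    (fun U => (M.ideal U).map (powQ (FrobSch.natCast_eq_zero_app X p U.1) m))
    (fun U f => by
      rw [Ideal.map_map, ← M.map_ideal_basicOpen U f, Ideal.map_map]
      congr 1
      ext s
      exact map_pow (X.presheaf.map _).hom s _)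
    (M.support : Set X) fun U x hx => by
      rw [SetLike.mem_coe, M.mem_support_iff_of_mem hx, Ideal.map, Scheme.zeroLocus_span]
      simp only [Scheme.mem_zeroLocus_iff, SetLike.mem_coe, Set.forall_mem_image]
      refine forall₂_congr fun y _ => ?_
      change x ∉ X.basicOpen y ↔ x ∉ X.basicOpen (y ^ p ^ m)
      rw [Scheme.basicOpen_pow _ _ (q_pos m)]

theorem powIdeal_ideal (U : X.affineOpens) : (powIdeal (p := p) m M).ideal U =
    (M.ideal U).map (powQ (FrobSch.natCast_eq_zero_app X p U.1) m) := rfl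

theorem comap_Fq_le : M.comap (Fq (p := p) X m) ≤ powIdeal (p := p) m M := by
  rw [← Scheme.IdealSheafData.le_map_iff_comap_le]
  intro U
  rw [Scheme.IdealSheafData.ideal_map_of_isAffineHom]
  intro s hs
  rw [Ideal.mem_comap]
  have key : ∀ (V : X.Opens) (hV : IsAffineOpen V) (e : V = U.1),
      (Fq (p := p) X m).appLE U.1 V (by rw [Fq_preimage, e]) s ∈
        (powIdeal (p := p) m M).ideal ⟨V, hV⟩ := by
    rintro V hV rfl
    rw [Fq_appLE]
    exact Ideal.mem_map_of_mem (powQ (FrobSch.natCast_eq_zero_app X p U.1) m) hs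
  rw [Scheme.Hom.app_eq_appLE]
  exact key _ _ (Fq_preimage X m U.1)

theorem contracting (J : X.IdealSheafData) (d : ℕ) (hd : J.radical ^ d ≤ J) (hn : d < p ^ m)
    (hM : M ≤ J.radical) :
    powIdeal (p := p) m M ≤ J ∧ powIdeal (p := p) m M ^ d ≤ J ^ (d + 1) := by
  have h1 : ∀ U, ∀ y ∈ M.ideal U, ∀ j, y ^ (j * d) ∈ (J.ideal U) ^ j := by
    intro U y hy j
    rw [mul_comm, pow_mul]
    exact Ideal.pow_mem_pow (hd U (Ideal.pow_mem_pow (hM U hy) d)) j
  refine ⟨fun U => ?_, fun U => ?_⟩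
  · rw [powIdeal_ideal, Ideal.map_le_iff_le_comap]
    intro y hy
    have := h1 U y hy 1
    rw [one_mul, pow_one] at this
    obtain ⟨j, hj⟩ := Nat.exists_eq_add_of_le hn.le
    change y ^ p ^ m ∈ J.ideal U
    rw [hj, pow_add]
    exact Ideal.mul_mem_right _ _ this
  · simp only [Scheme.IdealSheafData.ideal_pow, Pi.pow_apply, powIdeal_ideal]
    rw [← Ideal.map_pow, Ideal.map_le_iff_le_comap]
    have h2 : (M.ideal U) ^ d ≤ J.ideal U :=
      (Ideal.pow_right_mono (hM U) d).trans (hd U)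
    intro y hy
    exact Ideal.pow_le_pow_right hn (Ideal.pow_mem_pow (h2 hy) (p ^ m))

end Ideal

section Twist

variable {C C₀ X : Scheme.{u}} [FrobSch.IsCharP C₀ p]
  (k₀ : Type u) [Field k₀] [Fintype k₀] [CharP k₀ p] (e : ℕ) (hq : Fintype.card k₀ = p ^ e)
  (K : Type u) [Field K] [Algebra k₀ K] [IsAlgClosure k₀ K]
  (f₀ : C₀ ⟶ Spec (CommRingCat.of k₀)) (πC₀ : C ⟶ C₀) (πK : C ⟶ Spec (CommRingCat.of K))
  (hC : IsPullback πC₀ πK f₀ (Spec.map (CommRingCat.ofHom (algebraMap k₀ K))))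
  (n : ℕ) (Fr : C ⟶ C) (hFr₀ : Fr ≫ πC₀ = πC₀ ≫ Fq (p := p) C₀ (e * n))
  (hFrK : Fr ≫ πK = πK)

include hq in
theorem Fq_Spec_eq_id : Fq (p := p) (Spec (CommRingCat.of k₀)) (e * n) = 𝟙 _ := by
  apply ext_of_isAffine
  ext s
  have key : ∀ (V : (Spec (CommRingCat.of k₀)).Opens) (hV : V = ⊤) (h),
      (Fq (p := p) (Spec (CommRingCat.of k₀)) (e * n)).appLE ⊤ V h s =
        (Spec (CommRingCat.of k₀)).presheaf.map (homOfLE (le_top : V ≤ ⊤)).op s := by
    rintro V rfl h
    rw [Fq_appLE]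
    apply (Scheme.ΓSpecIso (CommRingCat.of k₀)).commRingCatIsoToRingEquiv.injective
    rw [map_pow, pow_mul, ← hq, FiniteField.pow_card_pow]
    simp
  rw [show (Fq (p := p) (Spec (CommRingCat.of k₀)) (e * n)).appTop =
    (Fq (p := p) (Spec (CommRingCat.of k₀)) (e * n)).appLE ⊤ _ le_rfl from Scheme.Hom.app_eq_appLE _]
  exact (key _ rfl le_rfl).trans (by simp)

include hq hC hFr₀ hFrK in
theorem exists_fac : FrobSch.IsCharP C p ∧ ∃ (G : C ⟶ C),
    ∀ [FrobSch.IsCharP C p], Fr = Fq (p := p) C (e * n) ≫ G := by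
  have hCp : FrobSch.IsCharP C p := FrobSch.IsCharP.of_hom πC₀ p
  refine ⟨hCp, ?_⟩
  have : IsAlgClosed K := IsAlgClosure.isAlgClosed k₀
  have : CharP K p := charP_of_injective_algebraMap (algebraMap k₀ K).injective p
  have hK : IsIso (Fq (p := p) (Spec (CommRingCat.of K)) (e * n)) :=
    isIso_Fq _ _ (Groth.Agent.PerfSch.Perfect.isPerfect_Spec_field K)
  set s := Spec.map (CommRingCat.ofHom (algebraMap k₀ K))
  set F := Fq (p := p) (Spec (CommRingCat.of K)) (e * n)
  have hFs : F ≫ s = s := by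
    rw [Fq_naturality, Fq_Spec_eq_id k₀ e hq n, Category.comp_id]
  have hFs' : inv F ≫ s = s := by rw [IsIso.inv_comp_eq, hFs]
  let G : C ⟶ C := hC.lift πC₀ (πK ≫ F) (by rw [Category.assoc, hFs, hC.w])
  let G' : C ⟶ C := hC.lift πC₀ (πK ≫ inv F) (by rw [Category.assoc, hFs', hC.w])
  have hG : G ≫ Fr = Fq (p := p) C (e * n) := by
    apply hC.hom_ext
    · rw [Category.assoc, hFr₀, IsPullback.lift_fst_assoc, Fq_naturality]
    · rw [Category.assoc, hFrK, IsPullback.lift_snd, Fq_naturality]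
  have hG' : G' ≫ G = 𝟙 C := by
    apply hC.hom_ext <;> simp [G, G']
  refine ⟨G', fun {_} => ?_⟩
  have h : Fr = G' ≫ Fq (p := p) C (e * n) := by
    rw [← hG, ← Category.assoc, hG', Category.id_comp]
  rw [h, Fq_naturality]

include hq hC hFr₀ hFrK in
theorem contracting_of_invariant (c₁ c₂ : C ⟶ X) (I : X.IdealSheafData) (d : ℕ)
    (hd : (I.comap c₂).radical ^ d ≤ I.comap c₂) (hn : d < p ^ (e * n))
    (hinv : (Fr ≫ c₁).base '' (c₂.base ⁻¹' (I.support : Set X)) ⊆ (I.support : Set X)) :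
    I.comap (Fr ≫ c₁) ≤ I.comap c₂ ∧ I.comap (Fr ≫ c₁) ^ d ≤ I.comap c₂ ^ (d + 1) := by
  obtain ⟨hCp, G, hG⟩ := exists_fac k₀ e hq K f₀ πC₀ πK hC n Fr hFr₀ hFrK
  rw [hG] at hinv ⊢
  rw [Category.assoc, Scheme.IdealSheafData.comap_comp]
  have hM : I.comap (G ≫ c₁) ≤ (I.comap c₂).radical := by
    rw [← Scheme.IdealSheafData.vanishingIdeal_support,
      ← Scheme.IdealSheafData.le_support_iff_le_vanishingIdeal]
    intro x hx
    rw [Scheme.IdealSheafData.support_comap] at hx ⊢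
    have := hinv ⟨x, hx, rfl⟩
    rw [Category.assoc] at this
    change (Fq (p := p) C (e * n) ≫ G ≫ c₁) x ∈ I.support at this
    rw [Scheme.Hom.comp_apply, Fq_apply] at this
    exact this
  obtain ⟨h1, h2⟩ := contracting (e * n) (I.comap (G ≫ c₁)) (I.comap c₂) d hd hn hM
  refine ⟨(comap_Fq_le (e * n) _).trans h1, le_trans (fun U => ?_) h2⟩
  simp only [Scheme.IdealSheafData.ideal_pow, Pi.pow_apply]
  exact Ideal.pow_right_mono (comap_Fq_le (e * n) _ U) d

end Twist

end Groth.Agent.LVCorr.Frob
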