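import Groth.Agent.LVCorr.Frob
import Groth.Agent.IdealSh.Comap
import Mathlib.RingTheory.Ideal.IdempotentFG
import Mathlib.AlgebraicGeometry.Noetherian
import Mathlib.AlgebraicGeometry.Morphisms.FiniteType
import Mathlib.AlgebraicGeometry.Morphisms.Finite
import Mathlib.AlgebraicGeometry.Morphisms.QuasiFinite
import Mathlib.AlgebraicGeometry.Morphisms.Immersion

/-!
# Contracting correspondences and their fixed points
-/

universe u

open CategoryTheory CategoryTheory.Limits AlgebraicGeometry Opposite TopologicalSpace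

set_option backward.isDefEq.respectTransparency.types false
set_option backward.isDefEq.respectTransparency false

namespace Groth.Agent.LVCorr.Contract

variable {p : ℕ} [hp : Fact p.Prime]

omit hp in
theorem isOpen_support_of_pow_eq {X : Scheme.{u}} [IsLocallyNoetherian X] (I : X.IdealSheafData)
    (k : ℕ) (hk : k ≠ 0) (h : I ^ k = I ^ (k + 1)) : IsOpen (I.support : Set X) := by
  have hid : ∀ U : X.affineOpens, ∃ e, IsIdempotentElem e ∧ I.ideal U ^ k = Ideal.span {e} := by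
    intro U
    have : IsNoetherianRing Γ(X, U) := IsLocallyNoetherian.component_noetherian U
    have h1 : I.ideal U ^ k = I.ideal U ^ (k + 1) :=
      congrFun (congrArg Scheme.IdealSheafData.ideal h) U
    have h2 : ∀ m, I.ideal U ^ (k + m) = I.ideal U ^ k := fun m => by
      induction m with
      | zero => rfl
      | succ m ihm => rw [← add_assoc, pow_succ, ihm, ← pow_succ, ← h1]
    exact (Ideal.isIdempotentElem_iff_of_fg _ (IsNoetherian.noetherian _)).1
      (show I.ideal U ^ k * I.ideal U ^ k = I.ideal U ^ k by rw [← pow_add, h2])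
  choose e he hspan using hid
  rw [isOpen_iff_forall_mem_open]
  intro x hx
  obtain ⟨_, ⟨U, hU, rfl⟩, hxU, -⟩ :=
    X.isBasis_affineOpens.exists_subset_of_mem_open (Set.mem_univ x) isOpen_univ
  have hsupp : ∀ y : X, y ∈ U → (y ∈ I.support ↔ y ∈ X.basicOpen (1 - e ⟨U, hU⟩)) := by
    intro y hy
    rw [← I.support_pow k hk, Scheme.IdealSheafData.mem_support_iff_of_mem (U := ⟨U, hU⟩) hy,
      Scheme.IdealSheafData.ideal_pow, Pi.pow_apply, hspan, Scheme.zeroLocus_span,
      Scheme.zeroLocus_singleton, Set.mem_compl_iff, SetLike.mem_coe]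
    constructor
    · intro hn
      rw [Scheme.mem_basicOpen _ _ _ hy] at hn ⊢
      rw [map_sub, map_one]
      exact (IsLocalRing.isUnit_or_isUnit_one_sub_self _).resolve_left hn
    · intro h1 h2
      have h3 : y ∈ X.basicOpen (e ⟨U, hU⟩ * (1 - e ⟨U, hU⟩)) := by
        rw [Scheme.basicOpen_mul]; exact ⟨h2, h1⟩
      rw [mul_sub, mul_one, (he ⟨U, hU⟩).eq, sub_self, Scheme.basicOpen_zero] at h3
      exact h3
  exact ⟨X.basicOpen (1 - e ⟨U, hU⟩), fun y hy => (hsupp y (X.basicOpen_le _ hy)).2 hy,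
    (X.basicOpen _).2, (hsupp x hxU).1 hx⟩

omit hp in
/-- On a connected piece of the fixed-point scheme the support of a contracted ideal is all or nothing. -/
theorem subset_preimage_support {C X F : Scheme.{u}} [IsLocallyNoetherian F] (i : F ⟶ C)
    (δ : F ⟶ X) (c₁ c₂ : C ⟶ X) (h₁ : i ≫ c₁ = δ) (h₂ : i ≫ c₂ = δ) (I : X.IdealSheafData)
    (W : C.Opens) (hW : Set.range i ⊆ (W : Set C)) (k : ℕ)
    (hpow : I.comap (W.ι ≫ c₁) ^ k ≤ I.comap (W.ι ≫ c₂) ^ (k + 1))
    (S : Set F) (hS : _root_.IsPreconnected S) (hne : (δ '' S ∩ (I.support : Set X)).Nonempty) :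
    S ⊆ δ ⁻¹' (I.support : Set X) := by
  let h := IsOpenImmersion.lift W.ι i (by rwa [Scheme.Opens.range_ι])
  have hh : h ≫ W.ι = i := IsOpenImmersion.lift_fac _ _ _
  have e1 : (I.comap (W.ι ≫ c₁)).comap h = I.comap δ := by
    rw [← Scheme.IdealSheafData.comap_comp, reassoc_of% hh, h₁]
  have e2 : (I.comap (W.ι ≫ c₂)).comap h = I.comap δ := by
    rw [← Scheme.IdealSheafData.comap_comp, reassoc_of% hh, h₂]
  have hP : I.comap δ ^ k = I.comap δ ^ (k + 1) := by
    refine le_antisymm ?_ (fun U => ?_)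
    · have h' := Scheme.IdealSheafData.comap_mono h hpow
      simp only [Groth.Agent.IdealSh.Comap.comap_pow, e1, e2] at h'
      exact h'
    · simp only [Scheme.IdealSheafData.ideal_pow, Pi.pow_apply]
      exact Ideal.pow_le_pow_right (Nat.le_succ k)
  obtain ⟨_, ⟨s, hs, rfl⟩, hsI⟩ := hne
  have hsupp : δ ⁻¹' (I.support : Set X) = ((I.comap δ).support : Set F) := by
    rw [Scheme.IdealSheafData.support_comap]; rfl
  rw [hsupp]
  rcases eq_or_ne k 0 with rfl | hk
  · exfalso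
    have : I.comap δ = ⊤ := by
      ext U : 2
      have := congrFun (congrArg Scheme.IdealSheafData.ideal hP) U
      simpa [Ideal.one_eq_top] using this.symm
    have hs' : s ∈ δ ⁻¹' (I.support : Set X) := hsI
    rw [hsupp, this, Scheme.IdealSheafData.support_top] at hs'
    exact hs'
  · exact hS.subset_isClopen ⟨(I.comap δ).support.isClosed, isOpen_support_of_pow_eq _ k hk hP⟩
      ⟨s, hs, hsupp.le hsI⟩

omit hp in
theorem fixed_fac {C X F : Scheme.{u}} {S : Scheme.{u}} {pX : X ⟶ S} {c₁ c₂ : C ⟶ X}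
    {hc : c₁ ≫ pX = c₂ ≫ pX} {i : F ⟶ C} {δ : F ⟶ X}
    (hF : IsPullback i δ (pullback.lift c₁ c₂ hc) (pullback.diagonal pX)) :
    i ≫ c₁ = δ ∧ i ≫ c₂ = δ := by
  constructor
  · have := congrArg (· ≫ pullback.fst pX pX) hF.w
    simpa using this
  · have := congrArg (· ≫ pullback.snd pX pX) hF.w
    simpa using this

omit hp in
theorem locallyOfFiniteType_of_isPullback {C X F : Scheme.{u}} {S : Scheme.{u}} {pX : X ⟶ S}
    {g : C ⟶ pullback pX pX} {i : F ⟶ C} {δ : F ⟶ X}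
    (hF : IsPullback i δ g (pullback.diagonal pX)) : LocallyOfFiniteType i := by
  have : LocallyOfFiniteType (pullback.diagonal pX ≫ pullback.fst pX pX) := by
    rw [pullback.diagonal_fst]; infer_instance
  exact MorphismProperty.of_isPullback hF.flip (locallyOfFiniteType_of_comp _ (pullback.fst pX pX))

section Open

variable {C C₀ X : Scheme.{u}} [FrobSch.IsCharP C₀ p]
  (k₀ : Type u) [Field k₀] [Fintype k₀] [CharP k₀ p] (e : ℕ) (hq : Fintype.card k₀ = p ^ e)
  (K : Type u) [Field K] [Algebra k₀ K] [IsAlgClosure k₀ K]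
  (f₀ : C₀ ⟶ Spec (CommRingCat.of k₀)) (πC₀ : C ⟶ C₀) (πK : C ⟶ Spec (CommRingCat.of K))
  (hC : IsPullback πC₀ πK f₀ (Spec.map (CommRingCat.ofHom (algebraMap k₀ K))))
  (n : ℕ) (Fr : C ⟶ C) (hFr₀ : Fr ≫ πC₀ = πC₀ ≫ Frob.Fq (p := p) C₀ (e * n))
  (hFrK : Fr ≫ πK = πK)

include hq hC hFr₀ hFrK in
theorem contracting_open (c₁ c₂ : C ⟶ X) (I : X.IdealSheafData) (W : C.Opens) (d : ℕ)
    (hd : (I.comap c₂).radical ^ d ≤ I.comap c₂) (hn : d < p ^ (e * n))
    (hinv : ∀ y ∈ W, c₂ y ∈ I.support → (Fr ≫ c₁) y ∈ I.support) :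
    I.comap (W.ι ≫ Fr ≫ c₁) ≤ I.comap (W.ι ≫ c₂) ∧
      I.comap (W.ι ≫ Fr ≫ c₁) ^ d ≤ I.comap (W.ι ≫ c₂) ^ (d + 1) := by
  obtain ⟨hCp, G, hG⟩ := Frob.exists_fac k₀ e hq K f₀ πC₀ πK hC n Fr hFr₀ hFrK
  have := FrobSch.IsCharP.of_hom W.ι p
  rw [hG] at hinv
  rw [hG, Category.assoc, ← Category.assoc, ← Frob.Fq_naturality, Category.assoc,
    Scheme.IdealSheafData.comap_comp]
  have hJ : (I.comap (W.ι ≫ c₂)).radical ^ d ≤ I.comap (W.ι ≫ c₂) := by
    rw [Scheme.IdealSheafData.comap_comp]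
    have h' := Scheme.IdealSheafData.comap_mono W.ι hd
    simp only [Groth.Agent.IdealSh.Comap.comap_pow] at h'
    refine le_trans (fun U => ?_) h'
    simp only [Scheme.IdealSheafData.ideal_pow, Pi.pow_apply]
    refine Ideal.pow_right_mono ?_ d
    rw [Scheme.IdealSheafData.radical_ideal, Scheme.IdealSheafData.ideal_comap_of_isOpenImmersion (f := W.ι),
      Scheme.IdealSheafData.ideal_comap_of_isOpenImmersion (f := W.ι),
      Scheme.IdealSheafData.radical_ideal, Ideal.comap_radical]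
  have hM : I.comap (W.ι ≫ G ≫ c₁) ≤ (I.comap (W.ι ≫ c₂)).radical := by
    rw [← Scheme.IdealSheafData.vanishingIdeal_support,
      ← Scheme.IdealSheafData.le_support_iff_le_vanishingIdeal]
    intro x hx
    rw [Scheme.IdealSheafData.support_comap] at hx ⊢
    have := hinv (W.ι x) x.2 hx
    rw [Category.assoc, Scheme.Hom.comp_apply, Frob.Fq_apply] at this
    exact this
  obtain ⟨h1, h2⟩ := Frob.contracting (e * n) (I.comap (W.ι ≫ G ≫ c₁)) (I.comap (W.ι ≫ c₂)) d hJ hn hM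
  refine ⟨(Frob.comap_Fq_le (e * n) _).trans h1, le_trans (fun U => ?_) h2⟩
  simp only [Scheme.IdealSheafData.ideal_pow, Pi.pow_apply]
  exact Ideal.pow_right_mono (Frob.comap_Fq_le (e * n) _ U) d

include hq hC hFr₀ hFrK in
theorem exists_open_contracting {S : Scheme.{u}} (pX : X ⟶ S) (c₁ c₂ : C ⟶ X)
    [LocallyQuasiFinite c₂] (hcomm : (Fr ≫ c₁) ≫ pX = c₂ ≫ pX) (x : X) (hx : IsClosed ({x} : Set X))
    (d : ℕ) (hn : d < p ^ (e * n))
    (hd : ((Scheme.IdealSheafData.vanishingIdeal ⟨{x}, hx⟩).comap c₂).radical ^ d ≤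
        (Scheme.IdealSheafData.vanishingIdeal ⟨{x}, hx⟩).comap c₂) :
    ∃ W : C.Opens,
      (pullback.lift (Fr ≫ c₁) c₂ hcomm) ⁻¹' Set.range (pullback.diagonal pX) ⊆ (W : Set C) ∧
      (Scheme.IdealSheafData.vanishingIdeal ⟨{x}, hx⟩).comap (W.ι ≫ Fr ≫ c₁) ≤
        (Scheme.IdealSheafData.vanishingIdeal ⟨{x}, hx⟩).comap (W.ι ≫ c₂) ∧
      (Scheme.IdealSheafData.vanishingIdeal ⟨{x}, hx⟩).comap (W.ι ≫ Fr ≫ c₁) ^ d ≤
        (Scheme.IdealSheafData.vanishingIdeal ⟨{x}, hx⟩).comap (W.ι ≫ c₂) ^ (d + 1) := by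
  have hD : IsClosed (c₂ ⁻¹' {x}) := hx.preimage c₂.continuous
  have hbad : IsClosed (c₂ ⁻¹' {x} \ (Fr ≫ c₁) ⁻¹' {x}) := by
    have : DiscreteTopology (c₂ ⁻¹' {x}) :=
      isDiscrete_iff_discreteTopology.1 (c₂.isDiscrete_preimage_singleton x)
    have h := hD.isClosedEmbedding_subtypeVal.isClosedMap
      (Subtype.val ⁻¹' (c₂ ⁻¹' {x} \ (Fr ≫ c₁) ⁻¹' {x})) (isClosed_discrete _)
    rwa [Subtype.image_preimage_coe, Set.inter_eq_right.2 Set.sdiff_subset] at h
  refine ⟨⟨_, hbad.isOpen_compl⟩, ?_, ?_⟩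
  · rintro y ⟨t, ht⟩ ⟨h1, h2⟩
    refine h2 ?_
    change (Fr ≫ c₁) y = x
    rw [Set.mem_preimage, Set.mem_singleton_iff] at h1
    have e1 := congrArg (pullback.fst pX pX) ht
    have e2 := congrArg (pullback.snd pX pX) ht
    rw [← Scheme.Hom.comp_apply, ← Scheme.Hom.comp_apply, pullback.diagonal_fst,
      pullback.lift_fst] at e1
    rw [← Scheme.Hom.comp_apply, ← Scheme.Hom.comp_apply, pullback.diagonal_snd,
      pullback.lift_snd] at e2
    rw [← e1, e2, h1]
  · refine contracting_open k₀ e hq K f₀ πC₀ πK hC n Fr hFr₀ hFrK c₁ c₂ _ _ d hd hn ?_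
    intro y hy hy2
    rw [← SetLike.mem_coe, Scheme.IdealSheafData.coe_support_vanishingIdeal] at hy2 ⊢
    by_contra h
    exact hy ⟨hy2, h⟩

end Open

omit hp in
theorem finite_discrete {F : Scheme.{u}} [NoetherianSpace F] [JacobsonSpace F]
    (h : ∀ z : F, IsClosed ({z} : Set F) → connectedComponent z = {z}) :
    Finite F ∧ DiscreteTopology F := by
  have key : ∀ T ∈ irreducibleComponents F, ∃ z, IsClosed ({z} : Set F) ∧ T = {z} := by
    intro T hT
    obtain ⟨z, hz, hzc⟩ := nonempty_inter_closedPoints hT.1.nonempty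
      (isClosed_of_mem_irreducibleComponents T hT).isLocallyClosed
    have hzc' : IsClosed ({z} : Set F) := hzc
    refine ⟨z, hzc', (h z hzc' ▸ hT.1.isConnected.subset_connectedComponent hz).antisymm ?_⟩
    exact Set.singleton_subset_iff.2 hz
  have hfin : Finite F := by
    refine Set.finite_univ_iff.1 ?_
    rw [← sUnion_irreducibleComponents]
    refine NoetherianSpace.finite_irreducibleComponents.sUnion fun T hT => ?_
    obtain ⟨z, -, rfl⟩ := key T hT
    exact Set.finite_singleton z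
  have : T1Space F := ⟨fun x => by
    obtain ⟨z, hz, he⟩ := key _ (irreducibleComponent_mem_irreducibleComponents x)
    have hx := mem_irreducibleComponent (x := x)
    rw [he] at hx
    rwa [Set.mem_singleton_iff.1 hx]⟩
  exact ⟨hfin, inferInstance⟩

end Groth.Agent.LVCorr.Contract
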