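import Mathlib.RingTheory.Ideal.KrullsHeightTheorem
import Mathlib.RingTheory.DiscreteValuationRing.TFAE
import Mathlib.RingTheory.DedekindDomain.Dvr

/-!
# Localisation at a prime radical of a principal ideal
-/

universe u

namespace Groth.Agent.LVCorr.DVR

variable {A : Type u} [CommRing A] [IsDomain A] [IsNoetherianRing A] {z : A}
  {P : Ideal A} [P.IsPrime]

theorem height_le_one (hP : (Ideal.span {z}).radical = P) : P.height ≤ 1 := by
  have hmin : P ∈ (Ideal.span {z}).minimalPrimes :=
    ⟨⟨inferInstance, hP ▸ Ideal.le_radical⟩, fun Q hQ _ => hP ▸ (hQ.1.radical_le_iff.2 hQ.2)⟩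
  exact Ideal.height_le_one_of_isPrincipal_of_mem_minimalPrimes _ P hmin

theorem eq_maximalIdeal_of_ne_bot (hP : (Ideal.span {z}).radical = P)
    (Q : Ideal (Localization.AtPrime P)) [Q.IsPrime] (hQ : Q ≠ ⊥) :
    Q = IsLocalRing.maximalIdeal (Localization.AtPrime P) := by
  by_contra hne
  have hlt : Q < IsLocalRing.maximalIdeal _ :=
    lt_of_le_of_ne (IsLocalRing.le_maximalIdeal Ideal.IsPrime.ne_top') hne
  have h1 := (Ideal.height_add_one_le_of_lt_of_isPrime hlt).trans (le_of_eq_of_le
    (by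
      have e := IsLocalRing.maximalIdeal_height_eq_ringKrullDim (R := Localization.AtPrime P)
      rw [IsLocalization.AtPrime.ringKrullDim_eq_height P] at e
      exact_mod_cast e) (height_le_one hP))
  have h2 := Ideal.height_add_one_le_of_lt_of_isPrime (I := (⊥ : Ideal (Localization.AtPrime P)))
    (J := Q) (bot_lt_iff_ne_bot.2 hQ)
  rw [Ideal.height_bot, zero_add] at h2
  have := (add_le_add h2 le_rfl).trans h1
  exact absurd this (by decide)

theorem isDVR [IsIntegrallyClosed A] (hz0 : z ≠ 0) (hP : (Ideal.span {z}).radical = P) :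
    IsDiscreteValuationRing (Localization.AtPrime P) := by
  have hzP : z ∈ P := hP ▸ Ideal.le_radical (Ideal.mem_span_singleton_self z)
  have hP0 : P ≠ ⊥ := fun h => hz0 (by simpa [h] using hzP)
  have hnf : ¬ IsField (Localization.AtPrime P) :=
    IsLocalization.AtPrime.not_isField A hP0 _
  have : IsIntegrallyClosed (Localization.AtPrime P) :=
    isIntegrallyClosed_of_isLocalization _ P.primeCompl P.primeCompl_le_nonZeroDivisors
  refine ((IsDiscreteValuationRing.TFAE _ hnf).out 3 0
    (a := IsIntegrallyClosed (Localization.AtPrime P) ∧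
      ∃! Q : Ideal (Localization.AtPrime P), Q ≠ ⊥ ∧ Q.IsPrime)
    (b := IsDiscreteValuationRing (Localization.AtPrime P))).1 ⟨this, ?_⟩
  exact ⟨IsLocalRing.maximalIdeal _, ⟨IsLocalRing.isField_iff_maximalIdeal_eq.not.1 hnf,
    inferInstance⟩, fun Q ⟨hQ0, hQ⟩ => eq_maximalIdeal_of_ne_bot hP Q hQ0⟩

end Groth.Agent.LVCorr.DVR
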